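import Mathlib
set_option autoImplicit false
set_option backward.isDefEq.respectTransparency.types false
set_option synthInstance.maxHeartbeats 400000
set_option maxHeartbeats 4000000
set_option linter.style.haveILetI false
set_option linter.unusedSectionVars false
set_option linter.unusedVariables false

/-!
# Ramified points of curves have separable residue fields: the algebraic core
-/
namespace Groth.Agent.Helper2.TameSep
open KaehlerDifferential IsLocalRing
universe u

/-- Let `R → S` be a local homomorphism of local `k`-algebras, `S` Noetherian, essentially of finite type over `k`, not a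
field, with `Ω[S/k]` cyclic, `κ(S)/κ(R)` separable and `𝔪_R S = 𝔪_S ^ e` with `e ≥ 2`.  Then `κ(S)/k` is separable. -/
theorem core {k R S : Type u} [Field k] [CommRing R] [CommRing S] [IsLocalRing R] [IsLocalRing S]
    [Algebra k R] [Algebra k S] [Algebra R S] [IsScalarTower k R S] [IsLocalHom (algebraMap R S)]
    [Algebra.EssFiniteType k S] [IsNoetherianRing S]
    (hfield : ¬ IsField S)
    (ω₀ : Ω[S⁄k]) (hω₀ : Submodule.span S {ω₀} = ⊤)
    (e : ℕ) (he : (maximalIdeal R).map (algebraMap R S) = maximalIdeal S ^ e) (h2 : 2 ≤ e)
    [Algebra.IsSeparable (ResidueField R) (ResidueField S)] :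
    Algebra.IsSeparable k (ResidueField S) := by
  haveI : Algebra.EssFiniteType k (ResidueField S) := Algebra.EssFiniteType.comp k S (ResidueField S)
  by_contra hns
  have hΩ : ¬ Subsingleton Ω[ResidueField S⁄k] := fun h =>
    hns ((Algebra.FormallyUnramified.iff_isSeparable (K := k) (ResidueField S)).mp
      ((Algebra.formallyUnramified_iff _ _).mpr h))
  -- Step 1
  obtain ⟨z, hz⟩ : ∃ z : R, D k (ResidueField S) (residue S (algebraMap R S z)) ≠ 0 := by
    by_contra h
    push Not at h
    apply hΩ
    have h' : ∀ r : ResidueField R, D k (ResidueField S) (algebraMap (ResidueField R) (ResidueField S) r) = 0 := by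
      intro r
      obtain ⟨r, rfl⟩ := residue_surjective r
      exact h r
    haveI : Algebra.FormallyUnramified (ResidueField R) (ResidueField S) :=
      Algebra.FormallyUnramified.of_isSeparable _ _
    haveI : Subsingleton Ω[ResidueField S⁄ResidueField R] :=
      (Algebra.formallyUnramified_iff _ _).mp inferInstance
    let d' : Derivation (ResidueField R) (ResidueField S) Ω[ResidueField S⁄k] :=
      { toFun := D k (ResidueField S)
        map_add' := map_add _
        map_smul' := fun r c => by
          simp only [RingHom.id_apply, Algebra.smul_def, Derivation.leibniz, h', smul_zero, add_zero]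
          exact algebraMap_smul _ _ _
        map_one_eq_zero' := (D k (ResidueField S)).map_one_eq_zero
        leibniz' := (D k (ResidueField S)).leibniz }
    have hD0 : ∀ c : ResidueField S, D k (ResidueField S) c = 0 := by
      intro c
      have : d' c = d'.liftKaehlerDifferential (D (ResidueField R) (ResidueField S) c) :=
        (Derivation.liftKaehlerDifferential_comp_D d' c).symm
      rw [show D k (ResidueField S) c = d' c from rfl, this,
        Subsingleton.elim (D (ResidueField R) (ResidueField S) c) 0, map_zero]
    have htop : (⊤ : Submodule (ResidueField S) Ω[ResidueField S⁄k]) = ⊥ := by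
      rw [← KaehlerDifferential.span_range_derivation, Submodule.span_eq_bot]
      rintro _ ⟨c, rfl⟩
      exact hD0 c
    exact ⟨fun a b => by
      have ha : a ∈ (⊥ : Submodule (ResidueField S) Ω[ResidueField S⁄k]) := htop ▸ trivial
      have hb : b ∈ (⊥ : Submodule (ResidueField S) Ω[ResidueField S⁄k]) := htop ▸ trivial
      rw [(Submodule.mem_bot _).mp ha, (Submodule.mem_bot _).mp hb]⟩
  -- Step 2
  have hspan : Submodule.span S {D k S (algebraMap R S z)} = ⊤ := by
    have hmem : D k S (algebraMap R S z) ∈ Submodule.span S {ω₀} := hω₀ ▸ trivial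
    obtain ⟨a, ha⟩ := Submodule.mem_span_singleton.mp hmem
    have hau : IsUnit a := by
      by_contra hna
      apply hz
      have hres : residue S a = 0 := (residue_eq_zero_iff a).mpr ((mem_maximalIdeal a).mpr hna)
      have h1 : KaehlerDifferential.map k k S (ResidueField S) (D k S (algebraMap R S z)) =
          D k (ResidueField S) (residue S (algebraMap R S z)) := by
        rw [KaehlerDifferential.map_D]; rfl
      rw [← h1, ← ha, map_smul, ← algebraMap_smul (ResidueField S) a, ResidueField.algebraMap_eq, hres,
        zero_smul]
    rw [eq_top_iff, ← hω₀, Submodule.span_singleton_le_iff_mem]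
    obtain ⟨b, hb⟩ := hau.exists_left_inv
    rw [Submodule.mem_span_singleton]
    exact ⟨b, by rw [← ha, smul_smul, hb, one_smul]⟩
  -- Step 3
  haveI : Algebra.FormallyUnramified R S := by
    rw [Algebra.formallyUnramified_iff]
    have hsurj := KaehlerDifferential.map_surjective k R S
    have htop : (⊤ : Submodule S Ω[S⁄R]) = ⊥ := by
      rw [← LinearMap.range_eq_top.mpr hsurj, LinearMap.range_eq_map, ← hspan, Submodule.map_span,
        Set.image_singleton, KaehlerDifferential.map_D, Algebra.algebraMap_self_apply,
        Derivation.map_algebraMap, Submodule.span_singleton_eq_bot]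
    exact ⟨fun a b => by
      have ha : a ∈ (⊥ : Submodule S Ω[S⁄R]) := htop ▸ trivial
      have hb : b ∈ (⊥ : Submodule S Ω[S⁄R]) := htop ▸ trivial
      rw [(Submodule.mem_bot _).mp ha, (Submodule.mem_bot _).mp hb]⟩
  -- Step 4
  haveI : Algebra.EssFiniteType R S := Algebra.EssFiniteType.of_comp k R S
  have hmax : (maximalIdeal R).map (algebraMap R S) = maximalIdeal S :=
    Algebra.FormallyUnramified.map_maximalIdeal
  rw [hmax] at he
  apply hfield
  rw [isField_iff_maximalIdeal_eq]
  refine Submodule.eq_bot_of_le_smul_of_le_jacobson_bot (maximalIdeal S) (maximalIdeal S)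
    (IsNoetherian.noetherian _) ?_ (maximalIdeal_le_jacobson ⊥)
  rw [smul_eq_mul, ← pow_two]
  conv_lhs => rw [he]
  exact Ideal.pow_le_pow_right h2

end Groth.Agent.Helper2.TameSep
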