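import Mathlib
import Groth.Prelude.Def_CurvBase
import Groth.Agent.Lib.Helper2.Curves.TameSep1
import Groth.Agent.Lib.Helper2.Sch.SmoothRelDim
import Groth.Agent.Lib.Helper3.GeoReg3
set_option autoImplicit false
set_option backward.isDefEq.respectTransparency.types false
set_option synthInstance.maxHeartbeats 400000
set_option maxHeartbeats 4000000
set_option linter.style.haveILetI false
set_option linter.unusedSectionVars false
set_option linter.unusedVariables false

/-!
# Ramified points of curves have separable residue fields: the geometric glue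
-/
namespace Groth.Agent.Helper2.TameSep
open CategoryTheory AlgebraicGeometry KaehlerDifferential IsLocalRing TopologicalSpace
universe u

attribute [local instance] Curv2.stalkAlgebra Curv2.resAlgebra

/-- An affine chart around a point of a scheme smooth of relative dimension `n` over a field, with its `k`-structure. -/
theorem exists_chart (k : Type u) [Field k] (n : ℕ) (X : Scheme.{u}) [X.Over (Spec (CommRingCat.of k))]
    [SmoothOfRelativeDimension n (X ↘ Spec (CommRingCat.of k))] (x : X) :
    ∃ (V : X.Opens) (_ : IsAffineOpen V) (hxV : x ∈ V) (φ : k →+* Γ(X, V)),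
      φ.IsStandardSmoothOfRelativeDimension n ∧
      (X.presheaf.germ V x hxV).hom.comp φ = Curv2.stalkMap k X x := by
  obtain ⟨U, hU, V, hV, hz, e, hstd⟩ :=
    SmoothOfRelativeDimension.exists_isStandardSmoothOfRelativeDimension (n := n)
      (f := X ↘ Spec (CommRingCat.of k)) x
  have hUtop : U = ⊤ := by
    ext w
    simp only [Opens.coe_top, Set.mem_univ, iff_true]
    have hgz : (X ↘ Spec (CommRingCat.of k)) x ∈ U := e hz
    haveI : Subsingleton ↥(Spec (CommRingCat.of k)) := inferInstanceAs (Subsingleton (PrimeSpectrum k))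
    rw [Subsingleton.elim w ((X ↘ Spec (CommRingCat.of k)) x)]
    exact hgz
  subst hUtop
  let eK : k ≃+* Γ(Spec (CommRingCat.of k), ⊤) :=
    (Scheme.ΓSpecIso (CommRingCat.of k)).symm.commRingCatIsoToRingEquiv
  have hψ : (((X ↘ Spec (CommRingCat.of k)).appLE ⊤ V e).hom.comp eK.toRingHom).IsStandardSmoothOfRelativeDimension n :=
    (RingHom.isStandardSmoothOfRelativeDimension_respectsIso (n := n)).2 _ eK hstd
  refine ⟨V, hV, hz, _, hψ, ?_⟩
  ext a
  simp only [Curv2.stalkMap, Coh.toGlobal, RingHom.comp_apply, Scheme.Hom.appLE, CommRingCat.hom_comp]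
  erw [TopCat.Presheaf.germ_res_apply]
  rfl

/-- In a Noetherian Jacobson ring, a maximal ideal at which the localization is a field is an isolated point. -/
theorem isOpen_singleton_of_isField {C S : Type u} [CommRing C] [CommRing S] [Algebra C S]
    [IsNoetherianRing C] [IsJacobsonRing C] (q : PrimeSpectrum C) [IsLocalization.AtPrime S q.asIdeal]
    (hq : IsClosed ({q} : Set (PrimeSpectrum C))) (hS : IsField S) :
    IsOpen ({q} : Set (PrimeSpectrum C)) := by
  have h := (PrimeSpectrum.isOpen_singleton_tfae_of_isNoetherian_of_isJacobsonRing q).out 2 0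
  refine h.mp ⟨hq, ?_⟩
  rw [PrimeSpectrum.stableUnderGeneralization_singleton]
  change Minimal (fun p : Ideal C => p.IsPrime ∧ ⊥ ≤ p) q.asIdeal
  refine ⟨⟨q.isPrime, bot_le⟩, ?_⟩
  intro p hp hpq
  refine le_of_eq ?_
  symm
  haveI := hp.1
  letI := hS.toField
  have hdisj : Disjoint (q.asIdeal.primeCompl : Set C) (p : Set C) := by
    rw [Set.disjoint_left]
    intro c hc hcp
    exact hc (hpq hcp)
  have hdisjq : Disjoint (q.asIdeal.primeCompl : Set C) (q.asIdeal : Set C) := by
    rw [Set.disjoint_left]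
    intro c hc hcq
    exact hc hcq
  have hp1 : (p.map (algebraMap C S)).IsPrime :=
    IsLocalization.isPrime_of_isPrime_disjoint q.asIdeal.primeCompl S p hp.1 hdisj
  have hq1 : (q.asIdeal.map (algebraMap C S)).IsPrime :=
    IsLocalization.isPrime_of_isPrime_disjoint q.asIdeal.primeCompl S q.asIdeal q.isPrime hdisjq
  have hp2 : p.map (algebraMap C S) = ⊥ := (Ideal.eq_bot_or_top _).resolve_right hp1.ne_top
  have hq2 : q.asIdeal.map (algebraMap C S) = ⊥ := (Ideal.eq_bot_or_top _).resolve_right hq1.ne_top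
  have hp3 := IsLocalization.comap_map_of_isPrime_disjoint q.asIdeal.primeCompl S hp.1 hdisj
  have hq3 := IsLocalization.comap_map_of_isPrime_disjoint q.asIdeal.primeCompl S q.isPrime hdisjq
  rw [hp2] at hp3
  rw [hq2] at hq3
  rw [← hp3, ← hq3]

theorem main16548 (k : Type u) [Field k]
    (X Y : Scheme.{u}) [X.Over (Spec (CommRingCat.of k))] [Y.Over (Spec (CommRingCat.of k))]
    [SmoothOfRelativeDimension 1 (X ↘ Spec (CommRingCat.of k))]
    (f : X ⟶ Y) (hf : f ≫ (Y ↘ Spec (CommRingCat.of k)) = X ↘ Spec (CommRingCat.of k))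
    (x : X) (hx : IsClosed ({x} : Set X)) (e : ℕ)
    (he : (IsLocalRing.maximalIdeal (Y.presheaf.stalk (f.base x))).map (f.stalkMap x).hom =
      IsLocalRing.maximalIdeal (X.presheaf.stalk x) ^ e)
    (h2 : 2 ≤ e)
    (hsep : @Algebra.IsSeparable (Y.residueField (f.base x)) (X.residueField x) _ _
      (f.residueFieldMap x).hom.toAlgebra) :
    Algebra.IsSeparable k (X.residueField x) := by
  obtain ⟨V, hV, hxV, φ, hφ, hgerm⟩ := exists_chart k 1 X x
  letI algC : Algebra k Γ(X, V) := φ.toAlgebra
  haveI hstd : Algebra.IsStandardSmoothOfRelativeDimension 1 k Γ(X, V) := hφ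
  letI algCS : Algebra Γ(X, V) (X.presheaf.stalk x) := X.presheaf.algebra_section_stalk ⟨x, hxV⟩
  haveI : IsScalarTower k Γ(X, V) (X.presheaf.stalk x) :=
    IsScalarTower.of_algebraMap_eq (fun a => (RingHom.congr_fun hgerm a).symm)
  haveI hloc : IsLocalization.AtPrime (X.presheaf.stalk x) (hV.primeIdealOf ⟨x, hxV⟩).asIdeal :=
    hV.isLocalization_stalk ⟨x, hxV⟩
  haveI : Algebra.IsStandardSmooth k Γ(X, V) :=
    Algebra.IsStandardSmoothOfRelativeDimension.isStandardSmooth 1
  haveI : Algebra.FiniteType k Γ(X, V) := inferInstance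
  haveI : Algebra.EssFiniteType Γ(X, V) (X.presheaf.stalk x) :=
    Algebra.EssFiniteType.of_isLocalization _ (hV.primeIdealOf ⟨x, hxV⟩).asIdeal.primeCompl
  haveI : Algebra.EssFiniteType k (X.presheaf.stalk x) := Algebra.EssFiniteType.comp k Γ(X, V) _
  haveI : IsNoetherianRing Γ(X, V) := Algebra.FiniteType.isNoetherianRing k _
  haveI : IsJacobsonRing Γ(X, V) := isJacobsonRing_of_finiteType (A := k)
  haveI : IsNoetherianRing (X.presheaf.stalk x) :=
    IsLocalization.isNoetherianRing (hV.primeIdealOf ⟨x, hxV⟩).asIdeal.primeCompl _ inferInstance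
  haveI : Nontrivial Γ(X, V) := ⟨⟨0, 1, fun h => (hV.primeIdealOf ⟨x, hxV⟩).isPrime.ne_top
    ((Ideal.eq_top_iff_one _).2 (h ▸ Ideal.zero_mem _))⟩⟩
  -- a generator of the differentials
  obtain ⟨ω₀, hω₀⟩ : ∃ ω₀ : Ω[X.presheaf.stalk x⁄k], Submodule.span (X.presheaf.stalk x) {ω₀} = ⊤ := by
    have h1 : Module.rank Γ(X, V) Ω[Γ(X, V)⁄k] = 1 := by
      have := Algebra.IsStandardSmoothOfRelativeDimension.rank_kaehlerDifferential (R := k) (S := Γ(X, V)) 1
      simpa using this
    have h3 : Module.finrank Γ(X, V) Ω[Γ(X, V)⁄k] = 1 := by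
      rw [Module.finrank, h1]; simp
    let b : Module.Basis Unit Γ(X, V) Ω[Γ(X, V)⁄k] := Module.basisUnique Unit h3
    have hb : Submodule.span Γ(X, V) {b ()} = ⊤ := by
      rw [← b.span_eq, Set.range_unique]
    refine ⟨KaehlerDifferential.map k k Γ(X, V) (X.presheaf.stalk x) (b ()), ?_⟩
    have := span_eq_top_of_isLocalizedModule (X.presheaf.stalk x)
      (hV.primeIdealOf ⟨x, hxV⟩).asIdeal.primeCompl
      (KaehlerDifferential.map k k Γ(X, V) (X.presheaf.stalk x)) (v := {b ()}) hb
    rwa [Set.image_singleton] at this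
  -- the stalk is not a field
  have hfield : ¬ IsField (X.presheaf.stalk x) := by
    intro hS
    have hcl : IsClosed ({hV.primeIdealOf ⟨x, hxV⟩} : Set (PrimeSpectrum Γ(X, V))) := by
      have h1 : IsClosed ({(⟨x, hxV⟩ : V.toScheme)} : Set V.toScheme) := by
        have : ({(⟨x, hxV⟩ : V.toScheme)} : Set V.toScheme) = V.ι ⁻¹' {x} := by
          ext w
          simp only [Set.mem_singleton_iff, Set.mem_preimage]
          constructor
          · rintro rfl; rfl
          · intro h; exact Subtype.ext h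
        rw [this]
        exact hx.preimage V.ι.continuous
      have h2 := (Scheme.homeoOfIso hV.isoSpec).isClosed_image.mpr h1
      have h3 : (⇑(Scheme.homeoOfIso hV.isoSpec) '' ({(⟨x, hxV⟩ : V.toScheme)} : Set V.toScheme)) =
          {hV.primeIdealOf ⟨x, hxV⟩} := Set.image_singleton
      rwa [h3] at h2
    have hopen := isOpen_singleton_of_isField (S := X.presheaf.stalk x) (hV.primeIdealOf ⟨x, hxV⟩) hcl hS
    have hdim := Groth.Agent.Helper2.SmoothRelDim.localDim_eq_of_isStandardSmoothOfRelativeDimension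
      (k := k) (A := Γ(X, V)) 1 (hV.primeIdealOf ⟨x, hxV⟩).asIdeal
    have hle : FlatMor.localDim (PrimeSpectrum Γ(X, V)) (hV.primeIdealOf ⟨x, hxV⟩) ≤ 0 := by
      unfold FlatMor.localDim
      refine (iInf_le _ (⟨⟨{hV.primeIdealOf ⟨x, hxV⟩}, hopen⟩, rfl⟩ :
        {U : TopologicalSpace.Opens (PrimeSpectrum Γ(X, V)) // hV.primeIdealOf ⟨x, hxV⟩ ∈ U})).trans ?_
      haveI : Subsingleton ↥(({hV.primeIdealOf ⟨x, hxV⟩} : Set (PrimeSpectrum Γ(X, V)))) :=
        (Set.subsingleton_singleton).coe_sort
      exact topologicalKrullDim_zero_of_discreteTopology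
        ↥(({hV.primeIdealOf ⟨x, hxV⟩} : Set (PrimeSpectrum Γ(X, V))))
    rw [hdim] at hle
    exact absurd hle (by decide)
  -- the local homomorphism
  letI algRS : Algebra (Y.presheaf.stalk (f.base x)) (X.presheaf.stalk x) := (f.stalkMap x).hom.toAlgebra
  haveI : IsScalarTower k (Y.presheaf.stalk (f.base x)) (X.presheaf.stalk x) :=
    IsScalarTower.of_algebraMap_eq (fun a =>
      (RingHom.congr_fun (Groth.Agent.Helper3.GeoReg.stalkMap_comp_stalkMap k X Y f hf x) a).symm)
  haveI : IsLocalHom (algebraMap (Y.presheaf.stalk (f.base x)) (X.presheaf.stalk x)) :=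
    inferInstanceAs (IsLocalHom (f.stalkMap x).hom)
  have hsep' : @Algebra.IsSeparable (ResidueField (Y.presheaf.stalk (f.base x)))
      (ResidueField (X.presheaf.stalk x)) _ _ (ResidueField.map (f.stalkMap x).hom).toAlgebra := hsep
  have hinst2 : (ResidueField.map (f.stalkMap x).hom).toAlgebra =
      (inferInstance : Algebra (ResidueField (Y.presheaf.stalk (f.base x))) (ResidueField (X.presheaf.stalk x))) :=
    Algebra.algebra_ext _ _ (fun r => by obtain ⟨r, rfl⟩ := residue_surjective r; rfl)
  rw [hinst2] at hsep'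
  haveI : Algebra.IsSeparable (ResidueField (Y.presheaf.stalk (f.base x)))
      (ResidueField (X.presheaf.stalk x)) := hsep'
  have hmain := core (k := k) (R := Y.presheaf.stalk (f.base x)) (S := X.presheaf.stalk x)
    hfield ω₀ hω₀ e he h2
  have hinst : Curv2.resAlgebra k X x = (inferInstance : Algebra k (ResidueField (X.presheaf.stalk x))) :=
    Algebra.algebra_ext _ _ (fun r => rfl)
  change @Algebra.IsSeparable k (ResidueField ↑(X.presheaf.stalk x)) _ _ (Curv2.resAlgebra k X x)
  rw [hinst]
  exact hmain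

end Groth.Agent.Helper2.TameSep
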